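import Cfsg.Agent.H443.HN.Scheme
import Cfsg.Agent.H443.HN.Ord
import Cfsg.Agent.SigZeroHN.Main
import Cfsg.Agent.H516.OddFrame

/-!
# The row HN of S4095, S4096, S4094 (`p` odd) (helper443, task 562)

`Ω` = the 1539000 conjugates of the involution `x²` of HN (cosets of `H = C(x²)`), nine colours of pairs (double cosets).  The
products of two members of `Ω` have order dividing `1, 5, 2, 3, 4, 5, 6, 2, 4` according to the colour.  A bad automorphism `a`
maps no `d` in `Ω` to itself, and `(a d) * d` is `p`-singular: impossible for `p ≥ 7`, two colours are possible for `p = 3` and for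
`p = 5`.  Then the traces of `a` on the eigenspaces `16` and `-112` of the graph of valency 1408 are not both integers.
-/

set_option autoImplicit false

namespace Cfsg.Agent.H443.HN.Frame

open Subgroup Cfsg.Agent.HN Cfsg.Agent.HN.NormalH Cfsg.Agent.HN.DCover Cfsg.Agent.HN.Distinct
  Cfsg.Agent.HN.Index Cfsg.Agent.H443.HN.Ord DoubleCoset

/-- the group -/
abbrev G : Type := Cfsg.Spor.HN

instance instSimple : IsSimpleGroup G := Cfsg.Agent.S1701.result.1

instance : Finite G := finite_HN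

/-- the involution `x²` -/
noncomputable def X2 : G := Pres.hx ^ 2

theorem X2_eq : X2 = Rep.x * Rep.x := pow_two Pres.hx

theorem cen : centralizer ({X2} : Set G) = H := Cfsg.Agent.HN.Central.centralizer_eq

theorem mem_H_iff {g : G} : g ∈ H ↔ g * X2 = X2 * g := by
  rw [← cen, mem_centralizer_singleton_iff]

/-! ### the colours -/

/-- the colour of an element -/
noncomputable def typ (g : G) : Fin 9 := (covers g).choose

theorem typ_spec (g : G) : ∃ a ∈ H, ∃ b ∈ H, g = a * w9 (typ g) * b := by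
  obtain ⟨a, ha, b, hb, e⟩ := mem_doubleCoset.1 (covers g).choose_spec
  exact ⟨a, ha, b, hb, e⟩

theorem typ_eq {i : Fin 9} {a b : G} (ha : a ∈ H) (hb : b ∈ H) : typ (a * w9 i * b) = i := by
  symm
  apply hdis
  obtain ⟨a', ha', b', hb', e'⟩ := typ_spec (a * w9 i * b)
  refine mem_doubleCoset.2 ⟨a'⁻¹ * a, H.mul_mem (H.inv_mem ha') ha, b * b'⁻¹, H.mul_mem hb (H.inv_mem hb'), ?_⟩
  have h1 : a'⁻¹ * (a * w9 i * b) * b'⁻¹ = w9 (typ (a * w9 i * b)) := by
    conv_lhs => rw [e']
    group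
  rw [← h1]
  group

theorem typ_mul {a b : G} (g : G) (ha : a ∈ H) (hb : b ∈ H) : typ (a * g * b) = typ g := by
  obtain ⟨a', ha', b', hb', e'⟩ := typ_spec g
  have h1 : a * g * b = (a * a') * w9 (typ g) * (b' * b) := by
    conv_lhs => rw [e']
    group
  rw [h1]
  exact typ_eq (H.mul_mem ha ha') (H.mul_mem hb' hb)

theorem typ_zero {g : G} : typ g = 0 ↔ g ∈ H := by
  constructor
  · intro h
    obtain ⟨a, ha, b, hb, e⟩ := typ_spec g
    rw [h, w9_zero, mul_one] at e
    rw [e]
    exact H.mul_mem ha hb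
  · intro h
    have h1 : g = g * w9 0 * 1 := by rw [w9_zero]; group
    rw [h1]
    exact typ_eq h H.one_mem

theorem w9_one : w9 1 = Pres.ht := by
  have h2 : w9 1 = DSem.vw [5] := rfl
  rw [h2, DSem.vw_single]
  exact if_pos rfl

theorem typ_inv_one {g : G} (h : typ g = 1) : typ g⁻¹ = 1 := by
  obtain ⟨a, ha, b, hb, e⟩ := typ_spec g
  rw [h, w9_one] at e
  have h1 : g⁻¹ = (b⁻¹ * (Pres.hx ^ 2)⁻¹) * w9 1 * (Pres.hx ^ 2 * a⁻¹) := by
    rw [e, mul_inv_rev, mul_inv_rev, ← inv_t, w9_one]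
    group
  rw [h1]
  exact typ_eq (H.mul_mem (H.inv_mem hb) (H.inv_mem (H.pow_mem x_mem 2))) (H.mul_mem (H.pow_mem x_mem 2) (H.inv_mem ha))

/-- the points -/
abbrev V : Type := G ⧸ H

noncomputable instance : Fintype V := Fintype.ofFinite _
noncomputable instance : Fintype H := Fintype.ofFinite _
noncomputable instance : DecidableEq V := Classical.decEq _

/-- the colour of a pair -/
noncomputable def ty (x y : V) : Fin 9 := typ (x.out⁻¹ * y.out)

theorem ty_mk (g g' : G) : ty (g : V) (g' : V) = typ (g⁻¹ * g') := by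
  obtain ⟨h, hh⟩ := QuotientGroup.mk_out_eq_mul H g
  obtain ⟨h', hh'⟩ := QuotientGroup.mk_out_eq_mul H g'
  unfold ty
  rw [hh, hh']
  have h1 : (g * (h : G))⁻¹ * (g' * (h' : G)) = (h : G)⁻¹ * (g⁻¹ * g') * (h' : G) := by group
  rw [h1]
  exact typ_mul _ (H.inv_mem h.2) h'.2

theorem ty_zero (x y : V) : ty x y = 0 ↔ x = y := by
  induction x using QuotientGroup.induction_on with | H g => ?_
  induction y using QuotientGroup.induction_on with | H g' => ?_
  rw [ty_mk, typ_zero, QuotientGroup.eq]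

theorem ty_one (x y : V) : ty x y = 1 ↔ ty y x = 1 := by
  have key : ∀ x y : V, ty x y = 1 → ty y x = 1 := by
    intro x y
    induction x using QuotientGroup.induction_on with | H g => ?_
    induction y using QuotientGroup.induction_on with | H g' => ?_
    rw [ty_mk, ty_mk]
    intro h
    have h1 : g'⁻¹ * g = (g⁻¹ * g')⁻¹ := by group
    rw [h1]
    exact typ_inv_one h
  exact ⟨key x y, key y x⟩

/-! ### the counts -/

/-- the number of elements of `H` over a point of the table -/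
noncomputable def N' : ℕ := Nat.card (Count.stab P1408.ψ 0)

theorem N'_pos : 0 < N' := Count.card_stab_pos _ _

/-- the fibres -/
noncomputable def N : ℕ := Nat.card {h : H // (((h : G) * Pres.ht : G) : V) = ((Pres.ht : G) : V)}

theorem card_H_fib (g g' : G) (j : Fin 9) :
    Nat.card {h : H // typ (g⁻¹ * (g' * (h : G) * Pres.ht)) = j} = kk (typ (g⁻¹ * g')) j * N' := by
  obtain ⟨a, ha, b, hb, e⟩ := typ_spec (g⁻¹ * g')
  set i := typ (g⁻¹ * g') with hi
  have h1 : ∀ h : H, typ (g⁻¹ * (g' * (h : G) * Pres.ht)) = DCover.τ i (ptH (⟨b, hb⟩ * h)) := by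
    intro h
    have h2 := mul_mem_doubleCoset i (⟨b, hb⟩ * h)
    obtain ⟨a', ha', b', hb', e'⟩ := mem_doubleCoset.1 h2
    have h3 : g⁻¹ * (g' * (h : G) * Pres.ht) = a * (w9 i * ((⟨b, hb⟩ * h : H) : G) * Pres.ht) * 1 := by
      calc g⁻¹ * (g' * (h : G) * Pres.ht) = (g⁻¹ * g') * (h : G) * Pres.ht := by group
        _ = a * w9 i * b * (h : G) * Pres.ht := by rw [e]
        _ = _ := by rw [Subgroup.coe_mul]; group
    rw [h3, typ_mul _ ha H.one_mem, e']
    exact typ_eq ha' hb'
  have h4 : Nat.card {h : H // typ (g⁻¹ * (g' * (h : G) * Pres.ht)) = j} =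
      Nat.card {h : H // DCover.τ i (ptH h) = j} := by
    refine Nat.card_congr (Equiv.subtypeEquiv (Equiv.mulLeft (⟨b, hb⟩ : H)) fun h => ?_)
    rw [h1]
    rfl
  rw [h4, Count.card_fiber H ptH N' card_ptH DCover.τ i j, Nat.card_eq_fintype_card, Fintype.card_subtype, card_τ]

theorem fib_eq (g' : G) {y : V} (hy : ty (g' : V) y = 1) :
    (Finset.univ.filter fun h : H => ((g' * (h : G) * Pres.ht : G) : V) = y).card = N := by
  induction y using QuotientGroup.induction_on with | H g => ?_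
  rw [ty_mk] at hy
  obtain ⟨a, ha, b, hb, e⟩ := typ_spec (g'⁻¹ * g)
  rw [hy, w9_one] at e
  have h0 : (g : V) = ((g' * a * Pres.ht : G) : V) := by
    rw [eq_comm, QuotientGroup.eq]
    have : (g' * a * Pres.ht)⁻¹ * g = b := by
      have h1 : g = g' * (a * Pres.ht * b) := by rw [← e]; group
      rw [h1]; group
    rw [this]
    exact hb
  rw [N, Nat.card_eq_fintype_card, ← Fintype.card_subtype]
  refine Fintype.card_congr (Equiv.subtypeEquiv (Equiv.mulLeft (⟨a, ha⟩ : H)⁻¹) fun h => ?_)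
  rw [h0, QuotientGroup.eq, QuotientGroup.eq]
  have h2 : (g' * (h : G) * Pres.ht)⁻¹ * (g' * a * Pres.ht) =
      (((Equiv.mulLeft (⟨a, ha⟩ : H)⁻¹ h : H) : G) * Pres.ht)⁻¹ * Pres.ht := by
    rw [Equiv.coe_mulLeft, Subgroup.coe_mul, Subgroup.coe_inv]
    group
  rw [h2]

theorem count_mul (x z : V) (j : Fin 9) :
    (Finset.univ.filter fun y => ty x y = j ∧ ty z y = 1).card * N = kk (ty x z) j * N' := by
  induction x using QuotientGroup.induction_on with | H g => ?_
  induction z using QuotientGroup.induction_on with | H g' => ?_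
  rw [ty_mk g g', ← card_H_fib, Nat.card_eq_fintype_card, Fintype.card_subtype]
  rw [Finset.card_eq_sum_card_fiberwise (f := fun h : H => ((g' * (h : G) * Pres.ht : G) : V))
    (t := Finset.univ.filter fun y => ty (g : V) y = j ∧ ty (g' : V) y = 1)]
  · rw [Finset.sum_const_nat (m := N)]
    intro y hy
    obtain ⟨-, hy1, hy2⟩ := Finset.mem_filter.1 hy
    rw [← fib_eq g' hy2]
    congr 1
    ext h
    simp only [Finset.mem_filter, Finset.mem_univ, true_and]
    constructor
    · exact fun h' => h'.2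
    · intro h'
      refine ⟨?_, h'⟩
      rw [← h', ty_mk] at hy1
      exact hy1
  · intro h hh
    have hh' := (Finset.mem_filter.1 hh).2
    refine Finset.mem_coe.2 (Finset.mem_filter.2 ⟨Finset.mem_univ _, ?_, ?_⟩)
    · rw [ty_mk]; exact hh'
    · rw [ty_mk]
      have h1 : g'⁻¹ * (g' * (h : G) * Pres.ht) = (h : G) * w9 1 * 1 := by rw [w9_one]; group
      rw [h1]
      exact typ_eq h.2 H.one_mem

theorem N_eq : N = N' := by
  have h1 := count_mul ((1 : G) : V) ((Pres.ht : G) : V) 0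
  have h2 : ty ((1 : G) : V) ((Pres.ht : G) : V) = 1 := by
    rw [ty_mk]
    have : (1 : G)⁻¹ * Pres.ht = 1 * w9 1 * 1 := by rw [w9_one]; group
    rw [this]
    exact typ_eq H.one_mem H.one_mem
  have h3 : (Finset.univ.filter fun y => ty ((1 : G) : V) y = 0 ∧ ty ((Pres.ht : G) : V) y = 1) = {((1 : G) : V)} := by
    ext y
    simp only [Finset.mem_filter, Finset.mem_univ, true_and, Finset.mem_singleton]
    constructor
    · rintro ⟨h4, -⟩
      exact ((ty_zero _ _).1 h4).symm
    · rintro rfl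
      exact ⟨(ty_zero _ _).2 rfl, (ty_one _ _).1 h2⟩
  rw [h3, Finset.card_singleton, h2, one_mul] at h1
  have h5 : kk 1 0 = 1 := by decide +kernel
  rw [h5, one_mul] at h1
  exact h1

/-- the collapsed adjacency matrix -/
def K (i j : Fin 9) : ℤ := kk i j

theorem count (x z : V) (j : Fin 9) :
    (((Finset.univ.filter fun y => ty x y = j ∧ ty z y = 1).card : ℕ) : ℤ) = K (ty x z) j := by
  have h1 := count_mul x z j
  rw [N_eq] at h1
  rw [Nat.eq_of_mul_eq_mul_right N'_pos h1]
  rfl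

/-! ### the sizes -/

theorem sz_mul {a b : G} (g : G) (ha : a ∈ H) (hb : b ∈ H) : Count.sz H (a * g * b) = Count.sz H g := by
  have h1 : Count.pnt H (a * g * b) ∈ MulAction.orbit H (Count.pnt H g) :=
    (Count.mem_orbit_iff' H _ _).2 (mem_doubleCoset.2 ⟨a, ha, b, hb, rfl⟩)
  unfold Count.sz
  rw [MulAction.orbit_eq_iff.2 h1]

theorem sz_typ (g : G) : Count.sz H g = Count.sz H (w9 (typ g)) := by
  obtain ⟨a, ha, b, hb, e⟩ := typ_spec g
  conv_lhs => rw [e]
  exact sz_mul _ ha hb

theorem sizes_aux {a0 a1 a2 a3 a4 a5 a6 a7 a8 : ℕ} (s0 : a0 = 1) (s1 : a0 * 1408 = a1 * 1)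
    (s2 : a1 * 50 = a2 * 32) (s3 : a1 * 450 = a3 * 18) (s4 : a1 * 350 = a4 * 4)
    (s5 : a1 * 504 = a5 * 2) (s6 : a2 * 672 = a6 * 2) (s7 : a6 * 10 = a7 * 1280)
    (s8 : a6 * 240 = a8 * 640) :
    a1 = 1408 ∧ a2 = 2200 ∧ a3 = 35200 ∧ a4 = 123200 ∧ a5 = 354816 ∧ a6 = 739200 ∧ a7 = 5775 ∧ a8 = 277200 := by
  omega

theorem sz_inj {i j : Fin 9} (h : Count.sz H (w9 i) = Count.sz H (w9 j)) : i = j := by
  have s0 : Count.sz H (w9 0) = 1 := by rw [w9_zero]; exact Count.sz_one H
  have s1 : Count.sz H (w9 0) * 1408 = Count.sz H (w9 1) * 1 := balance hdis 0 1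
  have s2 : Count.sz H (w9 1) * 50 = Count.sz H (w9 2) * 32 := balance hdis 1 2
  have s3 : Count.sz H (w9 1) * 450 = Count.sz H (w9 3) * 18 := balance hdis 1 3
  have s4 : Count.sz H (w9 1) * 350 = Count.sz H (w9 4) * 4 := balance hdis 1 4
  have s5 : Count.sz H (w9 1) * 504 = Count.sz H (w9 5) * 2 := balance hdis 1 5
  have s6 : Count.sz H (w9 2) * 672 = Count.sz H (w9 6) * 2 := balance hdis 2 6
  have s7 : Count.sz H (w9 6) * 10 = Count.sz H (w9 7) * 1280 := balance hdis 6 7
  have s8 : Count.sz H (w9 6) * 240 = Count.sz H (w9 8) * 640 := balance hdis 6 8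
  have hs := sizes_aux s0 s1 s2 s3 s4 s5 s6 s7 s8
  have key : ∀ i : Fin 9, Count.sz H (w9 i) = (![1, 1408, 2200, 35200, 123200, 354816, 739200, 5775, 277200] : Fin 9 → ℕ) i := by
    intro i
    fin_cases i
    · exact s0
    · exact hs.1
    · exact hs.2.1
    · exact hs.2.2.1
    · exact hs.2.2.2.1
    · exact hs.2.2.2.2.1
    · exact hs.2.2.2.2.2.1
    · exact hs.2.2.2.2.2.2.1
    · exact hs.2.2.2.2.2.2.2
  rw [key, key] at h
  revert i j
  decide

theorem sz_mul_stab (w : G) : Count.sz H w * Nat.card {h : H // w * (h : G) * w⁻¹ ∈ H} = Nat.card H := by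
  have h1 : Count.sz H w = (MulAction.stabilizer H (Count.pnt H w)).index := by
    rw [Count.sz, Nat.card_congr (MulAction.orbitEquivQuotientStabilizer H (Count.pnt H w))]
    rfl
  have h2 : Nat.card {h : H // w * (h : G) * w⁻¹ ∈ H} = Nat.card (MulAction.stabilizer H (Count.pnt H w)) := by
    refine Nat.card_congr (Equiv.subtypeEquivRight fun h => ?_)
    rw [MulAction.mem_stabilizer_iff]
    have h3 : h • Count.pnt H w = (((h : G) * w⁻¹ : G) : G ⧸ H) := rfl
    rw [h3]
    unfold Count.pnt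
    rw [QuotientGroup.eq]
    have h4 : ((h : G) * w⁻¹)⁻¹ * w⁻¹ = (w * (h : G) * w⁻¹)⁻¹ := by group
    rw [h4, inv_mem_iff]
  rw [h1, h2, mul_comm]
  exact Subgroup.card_mul_index _

theorem typ_aut {α : MulAut G} (hα : ∀ g, α g ∈ H ↔ g ∈ H) (g : G) : typ (α g) = typ g := by
  apply sz_inj
  rw [← sz_typ, ← sz_typ]
  have h1 := sz_mul_stab (α g)
  have h2 := sz_mul_stab g
  have h3 : Nat.card {h : H // α g * (h : G) * (α g)⁻¹ ∈ H} = Nat.card {h : H // g * (h : G) * g⁻¹ ∈ H} := by
    symm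
    let e : H ≃ H :=
      { toFun := fun h => ⟨α h, (hα _).2 h.2⟩
        invFun := fun h => ⟨α.symm h, (hα _).1 (by rw [MulEquiv.apply_symm_apply]; exact h.2)⟩
        left_inv := fun h => Subtype.ext (MulEquiv.symm_apply_apply _ _)
        right_inv := fun h => Subtype.ext (MulEquiv.apply_symm_apply _ _) }
    refine Nat.card_congr (Equiv.subtypeEquiv e fun h => ?_)
    have h4 : α g * ((e h : H) : G) * (α g)⁻¹ = α (g * (h : G) * g⁻¹) := by
      rw [map_mul, map_mul, map_inv]
      rfl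
    rw [h4, hα]
  rw [h3, ← h2] at h1
  refine Nat.eq_of_mul_eq_mul_right ?_ h1
  refine Nat.pos_of_ne_zero fun h0 => ?_
  rw [h0, mul_zero] at h2
  exact Nat.card_pos.ne h2

/-! ### automorphisms -/

section Aut

variable (a : MulAut G) (c : G) (hc : a X2 = c * X2 * c⁻¹)

include hc in
theorem mem_H_aut (g : G) : (MulAut.conj c⁻¹ * a) g ∈ H ↔ g ∈ H := by
  have h1 : (MulAut.conj c⁻¹ * a) X2 = X2 := by
    rw [MulAut.mul_apply, MulAut.conj_apply, hc, inv_inv]
    group
  rw [mem_H_iff, mem_H_iff]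
  constructor
  · intro h
    apply (MulAut.conj c⁻¹ * a).injective
    rw [map_mul, map_mul, h1]
    exact h
  · intro h
    have h2 := congrArg (MulAut.conj c⁻¹ * a) h
    rw [map_mul, map_mul, h1] at h2
    exact h2

/-- the map of the points -/
noncomputable def sg (x : V) : V := ((a x.out * c : G) : V)

include hc in
theorem sg_mk (g : G) : sg a c (g : V) = ((a g * c : G) : V) := by
  obtain ⟨h, hh⟩ := QuotientGroup.mk_out_eq_mul H g
  unfold sg
  rw [hh, QuotientGroup.eq]
  have h1 : (a (g * (h : G)) * c)⁻¹ * (a g * c) = ((MulAut.conj c⁻¹ * a) (h : G))⁻¹ := by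
    rw [MulAut.mul_apply, MulAut.conj_apply, map_mul, inv_inv]
    group
  rw [h1, inv_mem_iff, mem_H_aut a c hc]
  exact h.2

include hc in
theorem ty_sg (x y : V) : ty (sg a c x) (sg a c y) = ty x y := by
  induction x using QuotientGroup.induction_on with | H g => ?_
  induction y using QuotientGroup.induction_on with | H g' => ?_
  rw [sg_mk a c hc, sg_mk a c hc, ty_mk, ty_mk, ← typ_aut (mem_H_aut a c hc) (g⁻¹ * g')]
  congr 1
  rw [MulAut.mul_apply, MulAut.conj_apply, map_mul, map_inv, inv_inv]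
  group

include hc in
theorem sg_inj : Function.Injective (sg a c) := by
  intro x y h
  rw [← ty_zero, ← ty_sg a c hc, h, ty_zero]

/-- the permutation of the points -/
noncomputable def sgp : Equiv.Perm V := Equiv.ofBijective (sg a c) (Finite.injective_iff_bijective.1 (sg_inj a c hc))

theorem sgp_apply (x : V) : sgp a c hc x = sg a c x := rfl

end Aut

end Cfsg.Agent.H443.HN.Frame
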